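import Groth.Agent.AbExt.Core
import Groth.Agent.AVTheta.KLBase
import Groth.Agent.AmpleX.BaseChange

/-!
K(L) of a relatively ample module on an abelian scheme is finite over the base.
-/

noncomputable section

set_option autoImplicit false
set_option linter.style.haveILetI false
set_option linter.unusedSectionVars false
set_option backward.isDefEq.respectTransparency false
set_option backward.isDefEq.respectTransparency.types false
set_option maxHeartbeats 1000000
set_option synthInstance.maxHeartbeats 400000

universe u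

open CategoryTheory CategoryTheory.Limits MonoidalCategory CartesianMonoidalCategory MonObj AlgebraicGeometry TopologicalSpace

attribute [-instance] CategoryTheory.catToReflQuiver

namespace Groth.Agent.KLFin

open Groth.Agent Groth.Agent.H23 Groth.Agent.H23.TrivBasic Groth.Agent.H23.CubeAb
open scoped Groth.Agent.H23.PicMul CategoryTheory.Obj

/-- over an algebraically closed field the rational points of K(L) fix L under translation -/
theorem finite_points {Ω : Type u} [Field Ω] [IsAlgClosed Ω] (A : Over (Spec (CommRingCat.of Ω))) [GrpObj A]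
    [IsProper A.hom] [GeometricallyIntegral A.hom] {L : A.left.Modules} (hL : CohB1.IsAmple L)
    (hLi : PicF.IsInvertible L) {K : Over (Spec (CommRingCat.of Ω))} {i : K ⟶ A} (hK : ThetaGrp.IsKL A L i) :
    Finite (𝟙_ (Over (Spec (CommRingCat.of Ω))) ⟶ K) := by
  haveI : Mono i := by
    haveI := hK.closed
    exact Over.mono_of_mono_left i
  haveI : Subsingleton ↥(Spec (CommRingCat.of Ω)) := inferInstanceAs (Subsingleton (PrimeSpectrum Ω))
  haveI : Nonempty ↥(Spec (CommRingCat.of Ω)) := inferInstanceAs (Nonempty (PrimeSpectrum Ω))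
  haveI := (S12002.result Ω A L hL).to_subtype
  refine Finite.of_injective (β := ↥{p : 𝟙_ (Over (Spec (CommRingCat.of Ω))) ⟶ A |
    Nonempty ((Scheme.Modules.pullback (tr p).left).obj L ≅ L)}) (fun y => ⟨y ≫ i, PicMul.cl_eq_iff.1 ?_⟩)
    fun y y' h => (cancel_mono i).1 (Subtype.mk.inj h)
  have hM := (KLBasic.iff_eq_pull hLi (y ≫ i)).1 ((hK.univ _ _).2 ⟨y, rfl⟩)
  haveI : Subsingleton (𝟙_ (Over (Spec (CommRingCat.of Ω)))).left := ‹Subsingleton ↥(Spec (CommRingCat.of Ω))›
  haveI : Nonempty (𝟙_ (Over (Spec (CommRingCat.of Ω)))).left := ‹Nonempty ↥(Spec (CommRingCat.of Ω))›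
  have hc : PicF.pullCl (y ≫ i).left (PicF.cl L) = 1 :=
    KLBasic.trivial_of_subsingleton (PicClLib.isInvertible_pullback (y ≫ i).left hLi)
  have h := congrArg (PicF.pullCl (lift (𝟙 A) (toUnit A)).left) hM
  rw [hc, PicMul.pullCl_one, _root_.mul_one, PicClLib.pullCl_comp, PicClLib.pullCl_comp, ← Over.comp_left,
    ← Over.comp_left, lift_fst, Over.id_left, PicClLib.pullCl_id, ThetaGrp.transl_fst, MonObj.comp_mul, lift_fst,
    lift_snd_assoc] at h
  exact h

variable {S : Scheme.{u}}

/-- K(L) of a relatively ample module is finite over the base -/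
theorem isFinite_isKL (A : Over S) [GrpObj A] [IsProper A.hom] [Smooth A.hom] [GeometricallyConnected A.hom]
    (L : A.left.Modules) (hL : RelAmple.IsRelAmple A.hom L) {K : Over S} {i : K ⟶ A} (hK : ThetaGrp.IsKL A L i) :
    IsFinite K.hom := by
  have hLi := AmpleX.isInvertible_of_isRelAmple hL
  haveI := hK.closed
  haveI : IsProper K.hom := by
    rw [← Over.w i]
    infer_instance
  have key : ∀ s : S, (K.hom ⁻¹' {s}).Finite := by
    intro s
    let Ω := AlgebraicClosure (S.residueField s)
    let σ : Spec (CommRingCat.of Ω) ⟶ S :=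
      Spec.map (CommRingCat.ofHom (algebraMap (S.residueField s) Ω)) ≫ S.fromSpecResidueField s
    have hσ : ∀ o, σ o = s := fun o => by
      rw [Scheme.Hom.comp_apply]
      exact Scheme.fromSpecResidueField_apply _ _
    let AK := Red.bc σ A
    letI : GrpObj AK := Functor.grpObjObj
    haveI : GeometricallyIntegral AK.hom := AbDualBase.geometricallyIntegral_fibre σ A
    haveI : IsProper AK.hom := inferInstanceAs (IsProper (pullback.snd A.hom σ))
    let LK := (Scheme.Modules.pullback (pullback.fst A.hom σ)).obj L
    have hLKi : PicF.IsInvertible LK := PicClLib.isInvertible_pullback _ hLi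
    have hamp : CohB1.IsAmple LK := by
      have h := (AmpleX.isRelAmple_baseChange A.hom σ hL).2 ⟨⊤, isAffineOpen_top _⟩
      have h2 := AmpleX.isAmple_restrict_congr (L := LK) _ (𝟙 _) hLKi (by
        rw [Scheme.Opens.opensRange_ι, Scheme.Hom.opensRange_of_isIso, Scheme.Hom.preimage_top]) h
      exact AmpleX.isAmple_of_iso ((Scheme.Modules.restrictFunctorId).app LK) h2
    have hKK := AVTheta.KLBase.isKL_bc σ hLi hK
    haveI := finite_points AK hamp hLKi hKK
    let KK := (Over.pullback σ).obj K
    haveI : LocallyOfFiniteType KK.hom := inferInstanceAs (LocallyOfFiniteType (pullback.snd K.hom σ))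
    haveI : Finite ↥KK.left := by
      refine AbExt.finite_of_finite_points KK.hom ?_
      haveI : Finite ↥{p : Spec (CommRingCat.of Ω) ⟶ KK.left | p ≫ KK.hom = 𝟙 _} :=
        Finite.of_injective (β := 𝟙_ (Over (Spec (CommRingCat.of Ω))) ⟶ KK) (fun p => Over.homMk p.1 p.2)
          fun p q h => Subtype.ext (congrArg (fun r => r.left) h)
      exact Set.toFinite _
    have h : K.hom ⁻¹' {s} = Set.range (pullback.fst K.hom σ) := by
      rw [Scheme.Pullback.range_fst]
      congr 1
      refine Set.ext fun y => ⟨fun h => ⟨IsLocalRing.closedPoint Ω, (hσ _).trans h.symm⟩, ?_⟩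
      rintro ⟨o, rfl⟩
      exact hσ o
    rw [h]
    haveI : Finite ↥(pullback K.hom σ) := ‹Finite ↥KK.left›
    exact Set.finite_range _
  choose W hxW hW using fun s => exists_isFinite_morphismRestrict_of_finite_preimage_singleton K.hom s (key s)
  haveI : IsZariskiLocalAtTarget @IsFinite := inferInstance
  exact (IsZariskiLocalAtTarget.iff_of_iSup_eq_top W (eq_top_iff.2 fun s _ => Opens.mem_iSup.2 ⟨s, hxW s⟩)).2 hW

end Groth.Agent.KLFin

end
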